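import Cfsg.Agent.Lib.KnownSimple.TwoGen.Main

/-! The certificates for two generators of the seven tabulated groups. -/

set_option autoImplicit false

namespace CfsgLib.KnownSimple.TwoGen

open Cfsg.Lie

/-- steps -/
def g2Steps2 : List Step := [.conj 6, .conj 7, .conj 1, .conj 9, .conj 0, .conj 8, .comm 0 8, .comm 4 5, .conj 5, .comm 6 10]

theorem g2Steps2_cover : coverB chevG2 0 g2Steps2 [7, 6] = true := by decide +kernel

theorem g2_pair {F : Type*} [Field F] [Finite F]
    (h3 : ∃ x : F, x ≠ 0 ∧ x ≠ 1)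
    (hp : ((3 : ℕ) : F) = 0) :
    ∃ a b : ↥(chevG2.group F), Subgroup.closure ({a, b} : Set ↥(chevG2.group F)) = ⊤ := by
  obtain ⟨A, h⟩ := CfsgLib.Chevalley.exists_full (D := chevG2) (by simp)
  exact exists_gens_pair h h3 (v := [-2, -3]) (s := 7) (s' := 3) (r := 6)
    (by decide +kernel) (by decide +kernel) (by decide +kernel) (by decide +kernel) (by decide +kernel) (by decide +kernel) (by decide +kernel)
    (Or.inr ⟨3, by norm_num, hp, by decide +kernel⟩) g2Steps2_cover

/-- steps -/
def g2Steps1 : List Step := [.conj 7, .comm 9 7, .conj 9, .conj 10, .conj 8, .conj 11, .conj 4, .conj 6, .conj 1, .conj 2, .comm 0 10]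

theorem g2Steps1_cover : coverB chevG2 3 g2Steps1 [7] = true := by decide +kernel

theorem g2_single {F : Type*} [Field F] [Finite F]
    (h3 : ∃ x : F, x ≠ 0 ∧ x ≠ 1)
    (hp : ((3 : ℕ) : F) ≠ 0) :
    ∃ a b : ↥(chevG2.group F), Subgroup.closure ({a, b} : Set ↥(chevG2.group F)) = ⊤ := by
  obtain ⟨A, h⟩ := CfsgLib.Chevalley.exists_full (D := chevG2) (by simp)
  exact exists_gens_single h h3 (Or.inr hp) (v := [0, 1]) (s := 7) (s' := 3)
    (by decide +kernel) (by decide +kernel) (by decide +kernel) (by decide +kernel) (by decide +kernel) g2Steps1_cover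

/-- steps -/
def b2Steps2 : List Step := [.conj 4, .conj 5, .comm 0 6, .conj 0, .conj 2, .conj 3]

theorem b2Steps2_cover : coverB chevB2 0 b2Steps2 [5, 4] = true := by decide +kernel

theorem b2_pair {F : Type*} [Field F] [Finite F]
    (h3 : ∃ x : F, x ≠ 0 ∧ x ≠ 1)
    (hp : ((2 : ℕ) : F) = 0) :
    ∃ a b : ↥(chevB2.group F), Subgroup.closure ({a, b} : Set ↥(chevB2.group F)) = ⊤ := by
  obtain ⟨A, h⟩ := CfsgLib.Chevalley.exists_full (D := chevB2) (by simp)
  exact exists_gens_pair h h3 (v := [1, 1]) (s := 5) (s' := 1) (r := 4)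
    (by decide +kernel) (by decide +kernel) (by decide +kernel) (by decide +kernel) (by decide +kernel) (by decide +kernel) (by decide +kernel)
    (Or.inr ⟨2, by norm_num, hp, by decide +kernel⟩) b2Steps2_cover

/-- steps -/
def b2Steps1 : List Step := [.conj 5, .comm 5 6, .conj 6, .conj 7, .conj 2, .conj 4, .comm 1 5]

theorem b2Steps1_cover : coverB chevB2 2 b2Steps1 [5] = true := by decide +kernel

theorem b2_single {F : Type*} [Field F] [Finite F]
    (h3 : ∃ x : F, x ≠ 0 ∧ x ≠ 1)
    (hp : ((2 : ℕ) : F) ≠ 0) :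
    ∃ a b : ↥(chevB2.group F), Subgroup.closure ({a, b} : Set ↥(chevB2.group F)) = ⊤ := by
  obtain ⟨A, h⟩ := CfsgLib.Chevalley.exists_full (D := chevB2) (by simp)
  exact exists_gens_single h h3 (Or.inr hp) (v := [0, 1]) (s := 5) (s' := 1)
    (by decide +kernel) (by decide +kernel) (by decide +kernel) (by decide +kernel) (by decide +kernel) b2Steps1_cover

/-- steps -/
def d4Steps2 : List Step := [.conj 12, .conj 14, .comm 3 12, .comm 3 22, .comm 12 14, .comm 14 4, .comm 14 13, .comm 14 22, .comm 22 5, .conj 3, .conj 4, .conj 5, .conj 13, .comm 0 14, .comm 7 14, .comm 7 23, .conj 0, .conj 1, .conj 2, .conj 7, .conj 10, .comm 6 23]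

theorem d4Steps2_cover : coverB chevD4 0 d4Steps2 [12, 14] = true := by decide +kernel

theorem d4_pair {F : Type*} [Field F] [Finite F]
    (h3 : ∃ x : F, x ≠ 0 ∧ x ≠ 1) :
    ∃ a b : ↥(chevD4.group F), Subgroup.closure ({a, b} : Set ↥(chevD4.group F)) = ⊤ := by
  obtain ⟨A, h⟩ := CfsgLib.Chevalley.exists_full (D := chevD4) (by simp)
  exact exists_gens_pair h h3 (v := [0, 1, 1, 1]) (s := 12) (s' := 16) (r := 14)
    (by decide +kernel) (by decide +kernel) (by decide +kernel) (by decide +kernel) (by decide +kernel) (by decide +kernel) (by decide +kernel)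
    (Or.inl (by decide +kernel)) d4Steps2_cover

/-- steps -/
def d4StepsA : List Step := [.conj 10, .comm 10 21, .conj 19, .conj 21, .conj 15, .conj 23, .conj 13, .conj 17, .conj 2, .conj 4, .comm 0 19]

/-- steps -/
def d4StepsB : List Step := [.conj 10, .conj 7, .comm 10 21, .comm 11 7, .comm 21 7, .conj 11, .conj 18, .conj 19, .conj 21, .conj 14, .conj 15, .conj 20, .conj 23, .comm 6 13, .comm 7 13, .comm 7 17, .conj 9, .conj 12, .conj 13, .conj 17, .conj 22, .comm 1 9]

theorem d4StepsB_cover : coverB chevD4 0 d4StepsB [10, 7] = true := by decide +kernel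

theorem d4_two {F : Type*} [Field F] [Finite F]
    (h2 : ∀ u : F, u = 0 ∨ u = 1) :
    ∃ a b : ↥(chevD4.group F), Subgroup.closure ({a, b} : Set ↥(chevD4.group F)) = ⊤ := by
  obtain ⟨A, h⟩ := CfsgLib.Chevalley.exists_full (D := chevD4) (by simp)
  exact exists_gens_two_pair h h2 ⟨0, by decide +kernel⟩ (r := 10) (cc := 2) (k := 7) (kc := 1) (rest := [])
    (by decide +kernel) (by decide +kernel) (by decide +kernel) (by decide +kernel) (by decide +kernel) (l₁ := d4StepsA) (by decide +kernel) (by decide +kernel) d4StepsB_cover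

/-- steps -/
def f4Steps2 : List Step := [.conj 24, .conj 33, .comm 24 5, .comm 33 27, .conj 34, .conj 5, .conj 6, .conj 27, .comm 33 6, .comm 34 10, .comm 35 10, .comm 27 10, .conj 2, .conj 35, .conj 37, .conj 10, .conj 12, .conj 17, .conj 19, .comm 3 33, .comm 3 34, .comm 9 34, .comm 10 44, .conj 1, .conj 4, .conj 36, .conj 38, .conj 44, .comm 10 28, .comm 10 40, .comm 20 40, .conj 0, .conj 16, .conj 15, .conj 22, .conj 21, .conj 23, .conj 41, .conj 42, .comm 6 45, .conj 30, .conj 31, .conj 45, .comm 6 43, .comm 6 46, .comm 24 46]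

theorem f4Steps2_cover : coverB chevF4 0 f4Steps2 [24, 33] = true := by decide +kernel

theorem f4_pair {F : Type*} [Field F] [Finite F]
    (h3 : ∃ x : F, x ≠ 0 ∧ x ≠ 1) :
    ∃ a b : ↥(chevF4.group F), Subgroup.closure ({a, b} : Set ↥(chevF4.group F)) = ⊤ := by
  obtain ⟨A, h⟩ := CfsgLib.Chevalley.exists_full (D := chevF4) (by simp)
  exact exists_gens_pair h h3 (v := [0, 0, 1, 1]) (s := 24) (s' := 25) (r := 33)
    (by decide +kernel) (by decide +kernel) (by decide +kernel) (by decide +kernel) (by decide +kernel) (by decide +kernel) (by decide +kernel)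
    (Or.inl (by decide +kernel)) f4Steps2_cover

/-- steps -/
def f4StepsA : List Step := [.conj 0, .conj 15, .conj 21, .conj 41, .conj 45, .comm 0 46, .conj 46, .conj 23, .conj 42, .conj 47, .comm 0 32, .conj 32, .conj 5, .conj 30, .comm 0 43, .comm 0 26, .comm 32 16, .conj 2, .conj 43, .conj 17, .conj 16, .conj 25, .conj 26]

/-- steps -/
def f4StepsB : List Step := [.conj 0, .conj 8, .conj 18, .conj 15, .conj 34, .conj 21, .conj 37, .conj 41, .conj 44, .conj 45, .comm 0 46, .comm 8 40, .conj 40, .conj 46, .conj 23, .conj 27, .conj 35, .conj 39, .conj 42, .conj 47, .comm 0 32, .comm 0 40, .comm 8 29, .comm 18 32, .comm 29 11, .conj 5, .conj 11, .conj 12, .conj 14, .conj 28, .conj 29, .conj 30, .conj 32, .comm 0 26, .comm 0 36, .comm 0 43, .comm 5 43, .comm 8 13, .comm 8 36, .comm 12 20, .conj 2, .conj 16, .conj 17, .conj 25, .conj 26, .conj 43]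

theorem f4StepsB_cover : coverB chevF4 0 f4StepsB [0, 8] = true := by decide +kernel

theorem f4_two {F : Type*} [Field F] [Finite F]
    (h2 : ∀ u : F, u = 0 ∨ u = 1) :
    ∃ a b : ↥(chevF4.group F), Subgroup.closure ({a, b} : Set ↥(chevF4.group F)) = ⊤ := by
  obtain ⟨A, h⟩ := CfsgLib.Chevalley.exists_full (D := chevF4) (by simp)
  exact exists_gens_two_pair h h2 ⟨0, by decide +kernel⟩ (r := 0) (cc := 4) (k := 8) (kc := -1) (rest := [(15, -1, 2, 1)])
    (by decide +kernel) (by decide +kernel) (by decide +kernel) (by decide +kernel) (by decide +kernel) (l₁ := f4StepsA) (by decide +kernel) (by decide +kernel) f4StepsB_cover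

/-- steps -/
def e6Steps1 : List Step := [.conj 36, .comm 8 36, .conj 8, .conj 9, .comm 3 36, .conj 3, .conj 4, .conj 28, .conj 0, .conj 18, .conj 23, .comm 36 11, .conj 1, .conj 5, .conj 11, .conj 12, .comm 36 19, .comm 36 26, .comm 8 27, .conj 2, .conj 16, .conj 19, .conj 20, .conj 26, .conj 27, .conj 56, .comm 4 42, .comm 12 57, .conj 22, .conj 30, .conj 31, .conj 32, .conj 42, .conj 57, .conj 33, .conj 34, .conj 46, .conj 47, .conj 50, .conj 61, .comm 4 59, .comm 4 64, .comm 7 59, .comm 9 59, .comm 9 64, .comm 9 67, .comm 36 59, .comm 36 62, .comm 36 64, .comm 36 67, .conj 25, .conj 39, .conj 43, .conj 58, .conj 59, .conj 60, .conj 64, .conj 65, .conj 67, .conj 68, .comm 4 44, .comm 4 53, .comm 4 69, .comm 4 71, .comm 9 69, .comm 9 71, .comm 21 53, .comm 21 54, .comm 21 71, .comm 25 71, .comm 37 54]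

theorem e6Steps1_cover : coverB chevE6 0 e6Steps1 [36] = true := by decide +kernel

theorem e6_single {F : Type*} [Field F] [Finite F]
    (h3 : ∃ x : F, x ≠ 0 ∧ x ≠ 1) :
    ∃ a b : ↥(chevE6.group F), Subgroup.closure ({a, b} : Set ↥(chevE6.group F)) = ⊤ := by
  obtain ⟨A, h⟩ := CfsgLib.Chevalley.exists_full (D := chevE6) (by simp)
  exact exists_gens_single h h3 (Or.inl rfl) (v := [0, 0, 0, 0, 1, 1]) (s := 36) (s' := 37)
    (by decide +kernel) (by decide +kernel) (by decide +kernel) (by decide +kernel) (by decide +kernel) e6Steps1_cover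

theorem e6_two {F : Type*} [Field F] [Finite F]
    (h2 : ∀ u : F, u = 0 ∨ u = 1) :
    ∃ a b : ↥(chevE6.group F), Subgroup.closure ({a, b} : Set ↥(chevE6.group F)) = ⊤ := by
  obtain ⟨A, h⟩ := CfsgLib.Chevalley.exists_full (D := chevE6) (by simp)
  exact exists_gens_two h h2 e6Steps1_cover

/-- steps -/
def e7Steps1 : List Step := [.conj 63, .comm 23 63, .conj 24, .conj 23, .comm 14 63, .conj 14, .conj 15, .conj 51, .comm 5 63, .conj 5, .conj 38, .conj 6, .conj 45, .conj 0, .conj 10, .conj 19, .conj 28, .comm 39 63, .conj 1, .conj 3, .conj 11, .conj 39, .conj 40, .comm 20 40, .comm 20 63, .comm 36 63, .conj 2, .conj 4, .conj 8, .conj 20, .conj 21, .conj 36, .conj 37, .conj 56, .comm 12 63, .comm 34 63, .conj 7, .conj 18, .conj 34, .conj 35, .conj 50, .conj 55, .conj 59, .conj 17, .conj 33, .conj 44, .conj 49, .conj 54, .conj 58, .conj 61, .conj 27, .conj 43, .conj 48, .conj 53, .conj 57, .conj 60, .conj 62, .conj 78, .conj 93, .conj 94, .conj 99, .conj 100, .conj 101, .conj 102, .conj 73,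 .conj 74, .conj 83, .conj 95, .conj 109, .conj 110, .conj 111, .conj 79, .conj 80, .conj 84, .conj 87, .conj 103, .conj 119, .conj 120, .comm 6 104, .comm 6 106, .comm 6 112, .comm 6 115, .comm 6 125, .comm 13 106, .comm 13 115, .comm 13 125, .comm 15 112, .comm 15 115, .comm 15 125, .comm 21 115, .comm 21 125, .comm 24 125, .conj 42, .conj 46, .conj 47, .conj 66, .conj 70, .conj 75, .conj 96, .conj 97, .conj 98, .conj 106, .conj 107, .conj 112, .conj 113, .conj 115, .conj 116, .conj 125, .comm 6 81, .comm 6 88, .comm 6 90, .comm 6 121, .comm 6 122, .comm 6 124, .comm 13 90, .comm 13 122, .comm 13 124, .comm 15 124, .comm 41 90, .comm 41 91, .comm 41 122, .comm 41 124, .comm 42 124, .comm 52 124, .comm 64 91]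

theorem e7Steps1_cover : coverB chevE7 0 e7Steps1 [63] = true := by decide +kernel

theorem e7_single {F : Type*} [Field F] [Finite F]
    (h3 : ∃ x : F, x ≠ 0 ∧ x ≠ 1) :
    ∃ a b : ↥(chevE7.group F), Subgroup.closure ({a, b} : Set ↥(chevE7.group F)) = ⊤ := by
  obtain ⟨A, h⟩ := CfsgLib.Chevalley.exists_full (D := chevE7) (by simp)
  exact exists_gens_single h h3 (Or.inl rfl) (v := [0, 0, 0, 0, 0, 1, 1]) (s := 63) (s' := 64)
    (by decide +kernel) (by decide +kernel) (by decide +kernel) (by decide +kernel) (by decide +kernel) e7Steps1_cover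

theorem e7_two {F : Type*} [Field F] [Finite F]
    (h2 : ∀ u : F, u = 0 ∨ u = 1) :
    ∃ a b : ↥(chevE7.group F), Subgroup.closure ({a, b} : Set ↥(chevE7.group F)) = ⊤ := by
  obtain ⟨A, h⟩ := CfsgLib.Chevalley.exists_full (D := chevE7) (by simp)
  exact exists_gens_two h h2 e7Steps1_cover

/-- steps -/
def e8Steps1 : List Step := [.conj 120, .comm 120 66, .conj 66, .conj 67, .comm 67 103, .conj 103, .conj 52, .conj 53, .comm 96 53, .conj 96, .conj 33, .conj 34, .conj 87, .comm 67 45, .conj 73, .conj 12, .conj 45, .conj 13, .conj 61, .conj 5, .conj 20, .conj 29, .conj 48, .conj 89, .comm 62 120, .conj 4, .conj 6, .conj 10, .conj 30, .conj 62, .conj 63, .comm 43 67, .comm 43 120, .comm 49 120, .conj 3, .conj 7, .conj 11, .conj 18, .conj 43, .conj 44, .conj 49, .conj 50, .conj 102, .comm 24 120, .comm 31 120, .conj 2, .conj 14, .conj 24, .conj 25, .conj 28, .conj 83, .conj 86, .conj 95, .conj 1, .conj 8, .conj 9, .conj 39, .conj 42, .conj 58, .conj 60, .conj 72, .conj 0, .conj 16, .conj 17,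 .conj 26, .conj 27, .conj 46, .conj 47, .conj 88, .conj 15, .conj 22, .conj 23, .conj 40, .conj 41, .conj 84, .conj 85, .conj 109, .conj 21, .conj 37, .conj 38, .conj 59, .conj 81, .conj 82, .conj 108, .conj 113, .conj 36, .conj 57, .conj 79, .conj 80, .conj 101, .conj 107, .conj 112, .conj 116, .conj 56, .conj 78, .conj 94, .conj 100, .conj 106, .conj 111, .conj 115, .conj 118, .conj 71, .conj 93, .conj 99, .conj 105, .conj 110, .conj 114, .conj 117, .conj 119, .conj 141, .conj 162, .conj 163, .conj 169, .conj 170, .conj 171, .conj 172, .conj 173, .conj 135, .conj 136, .conj 147, .conj 164, .conj 184, .conj 185, .conj 186, .conj 187, .conj 142, .conj 143, .conj 148, .conj 152, .conj 174, .conj 204, .conj 205, .conj 206, .conj 165, .conj 166, .conj 175, .conj 178, .conj 188, .conj 194, .conj 226, .conj 227, .comm 13 189, .comm 13 191, .comm 13 207, .comm 13 210, .comm 13 219, .comm 13 234, .comm 32 191, .comm 32 210, .comm 32 219, .comm 32 234, .comm 34 207, .comm 34 210, .comm 34 219, .comm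 34 234, .comm 50 210, .comm 50 219, .comm 50 234, .comm 53 219, .comm 53 234, .comm 67 234, .conj 65, .conj 74, .conj 75, .conj 77, .conj 123, .conj 127, .conj 138, .conj 144, .conj 149, .conj 150, .conj 151, .conj 153, .conj 156, .conj 191, .conj 192, .conj 207, .conj 208, .conj 210, .conj 211, .conj 219, .conj 220, .conj 234, .comm 13 167, .comm 13 179, .comm 13 181, .comm 13 195, .comm 13 197, .comm 13 214, .comm 13 228, .comm 13 229, .comm 13 233, .comm 13 235, .comm 32 181, .comm 32 197, .comm 32 214, .comm 32 229, .comm 32 233, .comm 32 235, .comm 34 214, .comm 34 233, .comm 34 235, .comm 53 235, .comm 64 132, .comm 64 181, .comm 64 182, .comm 64 197, .comm 64 198, .comm 64 214, .comm 64 215, .comm 64 229, .comm 64 233, .comm 64 235, .comm 65 214, .comm 65 215, .comm 65 233, .comm 65 235, .comm 75 235, .comm 90 159, .comm 90 160, .comm 90 213, .comm 90 222, .comm 90 225, .comm 91 225, .comm 97 214, .comm 97 215, .comm 97 216, .comm 97 217, .comm 97 225, .comm 97 233, .comm 97 235, .comm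 104 223, .comm 104 232, .comm 121 160, .comm 126 235, .comm 127 235, .comm 130 223, .comm 145 232, .comm 151 231]

theorem e8Steps1_cover : coverB chevE8 0 e8Steps1 [120] = true := by decide +kernel

theorem e8_single {F : Type*} [Field F] [Finite F]
    (h3 : ∃ x : F, x ≠ 0 ∧ x ≠ 1) :
    ∃ a b : ↥(chevE8.group F), Subgroup.closure ({a, b} : Set ↥(chevE8.group F)) = ⊤ := by
  obtain ⟨A, h⟩ := CfsgLib.Chevalley.exists_full (D := chevE8) (by simp)
  exact exists_gens_single h h3 (Or.inl rfl) (v := [0, 0, 0, 0, 0, 0, 1, 1]) (s := 120) (s' := 121)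
    (by decide +kernel) (by decide +kernel) (by decide +kernel) (by decide +kernel) (by decide +kernel) e8Steps1_cover

theorem e8_two {F : Type*} [Field F] [Finite F]
    (h2 : ∀ u : F, u = 0 ∨ u = 1) :
    ∃ a b : ↥(chevE8.group F), Subgroup.closure ({a, b} : Set ↥(chevE8.group F)) = ⊤ := by
  obtain ⟨A, h⟩ := CfsgLib.Chevalley.exists_full (D := chevE8) (by simp)
  exact exists_gens_two h h2 e8Steps1_cover

end CfsgLib.KnownSimple.TwoGen
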